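import Groth.Agent.EtLC12.TorsionColim
import Groth.Agent.EtLC12.ExtColimGen
import Groth.Agent.SitePullUnit.DerivedClass
import Groth.Agent.SiteBase.Horseshoe

/-!
# Higher direct images of torsion étale sheaves along qcqs morphisms
-/

set_option autoImplicit false
set_option backward.isDefEq.respectTransparency false
set_option backward.isDefEq.respectTransparency.types false
set_option linter.style.haveILetI false

universe u

open CategoryTheory CategoryTheory.Limits AlgebraicGeometry Opposite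

namespace Groth.Agent.EtLC12.RpushTorsion

open Groth.Agent.EtFound

variable {X Y : Scheme.{u}} (f : X ⟶ Y) [QuasiCompact f] [QuasiSeparated f] [EtCoh.BCCont f]

theorem isQcqsObj_bc (V : Y.Etale) (hV : IsAffine V.left) : IsQcqsObj ((EtCoh.bc f).obj V) := by
  let p : pullback V.hom f ⟶ V.left := pullback.fst V.hom f
  haveI : QuasiCompact p := inferInstanceAs (QuasiCompact (pullback.fst V.hom f))
  haveI : QuasiSeparated p := inferInstanceAs (QuasiSeparated (pullback.fst V.hom f))
  haveI := hV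
  exact ⟨QuasiCompact.compactSpace_of_compactSpace p, quasiSeparatedSpace_of_quasiSeparated p⟩

theorem exists_affine_nhd {V : Y.Etale} (v : V.left) :
    ∃ (W : Y.Etale) (g : W ⟶ V) (w : W.left), IsAffine W.left ∧ g.left w = v := by
  obtain ⟨O, hO, hx, -⟩ := exists_isAffineOpen_mem_and_subset (U := (⊤ : V.left.Opens)) (x := v) trivial
  haveI : Etale V.hom := V.prop
  exact ⟨Scheme.Etale.mk (O.ι ≫ V.hom), MorphismProperty.Over.homMk O.ι rfl trivial, (⟨v, hx⟩ : O.toScheme), hO, rfl⟩

theorem epi_push_map {S : ShortComplex (EtCoh.Ab X)} (hS : S.ShortExact) (h1 : QcqsAcyclic.IsCechAcyclic S.X₁) :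
    Epi ((EtCoh.push f).map S.g) := by
  refine (Sheaf.isLocallySurjective_iff_epi' AddCommGrpCat.{u + 1} _).1 ⟨fun {V} s => ?_⟩
  refine (mem_topology_iff _).2 fun v => ?_
  obtain ⟨W, g, w, hW, hw⟩ := exists_affine_nhd v
  obtain ⟨t, ht⟩ := QcqsAcyclic.sections_surjective S hS h1 (isQcqsObj_bc f W hW)
    ((((EtCoh.push f).obj S.X₃).obj.map g.op).hom s)
  exact ⟨W, g, w, ⟨t, ht⟩, hw⟩

theorem isZero_Rpush_of_isCechAcyclic (G : EtCoh.Ab X) (hG : QcqsAcyclic.IsCechAcyclic G) (q : ℕ) :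
    IsZero ((EtCoh.Rpush f (q + 1)).obj G) := by
  haveI : (EtCoh.push f).IsRightAdjoint := (EtCoh.pullPushAdj f).isRightAdjoint
  exact SitePullUnit.isZero_rightDerived_of_class (EtCoh.push f) QcqsAcyclic.IsCechAcyclic
    (fun S hS h1 hI => QcqsAcyclic.isCechAcyclic_X₃ S hS h1 (haveI := hI; QcqsAcyclic.isCechAcyclic_of_injective S.X₂))
    (fun S hS h1 _ => epi_push_map f hS h1) hG q

variable {Λ : Type (u + 1)} [SmallCategory Λ] [IsFiltered Λ]

theorem push_jointlyEpi (D : Λ ⥤ EtCoh.Ab X) {Z : EtCoh.Ab Y} (h : (EtCoh.push f).obj (colimit D) ⟶ Z)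
    (hh : ∀ j, (EtCoh.push f).map (colimit.ι D j) ≫ h = 0) : h = 0 := by
  refine Sheaf.hom_ext (NatTrans.ext (funext fun ⟨V⟩ => AddCommGrpCat.hom_ext (AddMonoidHom.ext fun s => ?_)))
  refine EtFound.eq_of_cover Z ((h.hom.app (op V)).hom s) (((0 : (EtCoh.push f).obj (colimit D) ⟶ Z).hom.app (op V)).hom s)
    ((mem_topology_iff _).2 fun v => ?_)
  obtain ⟨W, g, w, hW, hw⟩ := exists_affine_nhd v
  refine ⟨W, g, w, ?_, hw⟩
  haveI := preservesColimitsOfShape_sections_qcqs_ab _ (isQcqsObj_bc f W hW) Λ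
  let hc := isColimitOfPreserves (sheafToPresheaf X.smallEtaleTopology AddCommGrpCat.{u + 1} ⋙
    (evaluation X.Etaleᵒᵖ AddCommGrpCat.{u + 1}).obj (op ((EtCoh.bc f).obj W))) (colimit.isColimit D)
  obtain ⟨j, t, ht⟩ := Concrete.isColimit_exists_rep _ hc ((((EtCoh.push f).obj (colimit D)).obj.map g.op).hom s)
  show (Z.obj.map g.op).hom ((h.hom.app (op V)).hom s) =
    (Z.obj.map g.op).hom (((0 : (EtCoh.push f).obj (colimit D) ⟶ Z).hom.app (op V)).hom s)
  refine ((NatTrans.naturality_apply h.hom g.op s).symm.trans ?_).trans (map_zero _).symm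
  refine (congrArg (h.hom.app (op W)).hom ht).symm.trans ?_
  exact congrArg (fun k : (EtCoh.push f).obj (D.obj j) ⟶ Z => (k.hom.app (op W)).hom t) (hh j)

theorem Rpush_jointlyEpi : ∀ (q : ℕ) (D : Λ ⥤ EtCoh.Ab X) {Z : EtCoh.Ab Y} (h : (EtCoh.Rpush f q).obj (colimit D) ⟶ Z),
    (∀ j, (EtCoh.Rpush f q).map (colimit.ι D j) ≫ h = 0) → h = 0 := by
  haveI : (EtCoh.push f).IsRightAdjoint := (EtCoh.pullPushAdj f).isRightAdjoint
  haveI : PreservesFiniteLimits (EtCoh.push f) := inferInstance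
  let L := SESResLib.derivedLES (EtCoh.push f)
  intro q
  induction q with
  | zero =>
    intro D Z h hh
    let e := (EtCoh.push f).rightDerivedZeroIsoSelf
    have h0 : e.inv.app (colimit D) ≫ h = 0 := push_jointlyEpi f D _ fun j => by
      rw [← Category.assoc, e.inv.naturality, Category.assoc]
      exact (congrArg (e.inv.app (D.obj j) ≫ ·) (hh j)).trans comp_zero
    have h1 := congrArg (e.hom.app (colimit D) ≫ ·) h0
    simp only [comp_zero] at h1
    exact ((Category.id_comp h).symm.trans ((congrArg (· ≫ h) (e.hom_inv_id_app (colimit D)).symm).trans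
      ((Category.assoc _ _ _).trans h1)))
  | succ q ih =>
    intro D Z h hh
    have hT := ExtColimGen.shortExact_colimSES D
    haveI : Epi (L.δ _ hT q (q + 1) rfl) :=
      (L.exact₁ _ hT q (q + 1) rfl).epi_f ((isZero_Rpush_of_isCechAcyclic f _
        (QcqsAcyclic.isCechAcyclic_colimit _ fun j => QcqsAcyclic.isCechAcyclic_of_injective
          ((ExtColimGen.cofreeInj D).obj j)) q).eq_of_tgt _ _)
    rw [← cancel_epi (L.δ _ hT q (q + 1) rfl), comp_zero]
    refine ih (cokernel (ExtColimGen.toCofreeInj D)) _ fun j => ?_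
    have hn := L.δ_natural (ExtColimGen.shortExact_stageSES D j) hT (ExtColimGen.stageToColim D j) q (q + 1) rfl
    refine (Category.assoc _ _ _).symm.trans ?_
    refine (congrArg (· ≫ h) ?_).trans ((Category.assoc _ _ _).trans
      ((congrArg (L.δ _ (ExtColimGen.shortExact_stageSES D j) q (q + 1) rfl ≫ ·) (hh j)).trans comp_zero))
    first | exact hn | exact hn.symm

/-- Higher direct images of torsion sheaves along qcqs morphisms are torsion. -/
theorem isTorsion_Rpush (F : EtCoh.Ab X) (hF : EtCoh.IsTorsion F) (q : ℕ) :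
    EtCoh.IsTorsion ((EtCoh.Rpush f q).obj F) := by
  haveI := TorsionColim.isIso_desc F hF
  let D := TorsionColim.D F
  let R := EtCoh.Rpush f q
  let e : colimit D ≅ F := asIso (colimit.desc D (TorsionColim.cocone F))
  let d : colimit (D ⋙ R) ⟶ R.obj F := colimit.post D R ≫ R.map e.hom
  haveI : (EtCoh.Rpush f q).Additive := inferInstance
  haveI : Epi (colimit.post D R) := Preadditive.epi_of_cancel_zero _ fun {Z} h hh => by
    refine Rpush_jointlyEpi f q D h fun j => ?_
    have h2 := congrArg (colimit.ι (D ⋙ R) j ≫ ·) hh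
    simpa only [comp_zero, colimit.ι_post_assoc] using h2
  haveI : Epi d := inferInstanceAs (Epi (colimit.post D R ≫ R.map e.hom))
  intro V s v
  have hloc : Presheaf.IsLocallySurjective Y.smallEtaleTopology d.hom :=
    (Sheaf.isLocallySurjective_iff_epi' AddCommGrpCat.{u + 1} d).2 inferInstance
  obtain ⟨V₁, g₁, v₁, ⟨t, ht⟩, hv₁⟩ := (mem_topology_iff _).1 (hloc.imageSieve_mem s) v
  obtain ⟨W, g, w, hW, hw⟩ := exists_affine_nhd v₁
  haveI := hW
  haveI := preservesColimitsOfShape_sections_qcqs_ab W (isQcqsObj_of_isAffine W) TorsionColim.Idx.{u}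
  let hc := isColimitOfPreserves (sheafToPresheaf Y.smallEtaleTopology AddCommGrpCat.{u + 1} ⋙
    (evaluation Y.Etaleᵒᵖ AddCommGrpCat.{u + 1}).obj (op W)) (colimit.isColimit (D ⋙ R))
  obtain ⟨j, a, ha⟩ := Concrete.isColimit_exists_rep _ hc (((colimit (D ⋙ R)).obj.map g.op).hom t)
  refine ⟨W, g ≫ g₁, ⟨w, (Scheme.Hom.comp_apply _ _ _).trans ((congrArg g₁.left hw).trans hv₁)⟩,
    isOfFinAddOrder_iff_nsmul_eq_zero.2 ⟨TorsionColim.ex j, Nat.factorial_pos _, ?_⟩⟩
  have hz : TorsionColim.ex j • 𝟙 (D.obj j) = 0 := by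
    show TorsionColim.ex j • 𝟙 (kernel (TorsionColim.ex j • 𝟙 F)) = 0
    rw [← cancel_mono (kernel.ι (TorsionColim.ex j • 𝟙 F)), zero_comp, Preadditive.nsmul_comp, Category.id_comp]
    have h3 := kernel.condition (TorsionColim.ex j • 𝟙 F)
    rwa [Preadditive.comp_nsmul, Category.comp_id] at h3
  have hz' : TorsionColim.ex j • 𝟙 (R.obj (D.obj j)) = 0 := by
    rw [← R.map_id, ← R.map_nsmul, hz, R.map_zero]
  have ha0 : TorsionColim.ex j • a = 0 := (killedBy_iff_nsmul _ _).2 hz' W a
  have hs : (((EtCoh.Rpush f q).obj F).obj.map (g ≫ g₁).op).hom s =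
      (d.hom.app (op W)).hom (((colimit (D ⋙ R)).obj.map g.op).hom t) := by
    rw [op_comp, Functor.map_comp]
    exact (congrArg (((EtCoh.Rpush f q).obj F).obj.map g.op).hom ht).symm.trans
      (NatTrans.naturality_apply d.hom g.op t).symm
  have hb : TorsionColim.ex j • ((colimit (D ⋙ R)).obj.map g.op).hom t = 0 := by
    rw [← ha]
    exact (map_nsmul ((colimit.ι (D ⋙ R) j).hom.app (op W)).hom _ a).symm.trans
      ((congrArg ((colimit.ι (D ⋙ R) j).hom.app (op W)).hom ha0).trans (map_zero _))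
  refine (congrArg (TorsionColim.ex j • ·) hs).trans ?_
  exact (map_nsmul (d.hom.app (op W)).hom _ _).symm.trans ((congrArg (d.hom.app (op W)).hom hb).trans (map_zero _))

end Groth.Agent.EtLC12.RpushTorsion
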