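import Groth.Agent.EtLC12.QcqsAcyclic
import Groth.Agent.EtFound.ConstVal
import Groth.Agent.EtFound.Presentation
import Groth.Agent.SiteBase.Top

/-!
# Torsion étale sheaves as filtered colimits
-/

set_option autoImplicit false
set_option backward.isDefEq.respectTransparency false
set_option backward.isDefEq.respectTransparency.types false
set_option linter.style.haveILetI false

universe u

open CategoryTheory CategoryTheory.Limits AlgebraicGeometry Opposite Abelian

namespace Groth.Agent.EtLC12.TorsionColim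

variable {X : Scheme.{u}} (F : EtCoh.Ab X)

/-- The index category. -/
abbrev Idx : Type (u + 1) := ULift.{u + 1} ℕ

/-- The exponent of a stage. -/
abbrev ex (i : Idx.{u}) : ℕ := (i.down + 1).factorial

/-- The kernel of multiplication by the exponent. -/
noncomputable abbrev T (i : Idx.{u}) : EtCoh.Ab X := kernel (ex i • 𝟙 F)

theorem ι_zero {i j : Idx.{u}} (h : i ≤ j) : kernel.ι (ex i • 𝟙 F) ≫ (ex j • 𝟙 F) = 0 := by
  obtain ⟨c, hc⟩ := Nat.factorial_dvd_factorial (Nat.add_le_add_right h 1)
  rw [show ex j = c * ex i by rw [ex, ex, hc, Nat.mul_comm], mul_smul, Preadditive.comp_nsmul, kernel.condition,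
    smul_zero]

/-- The stages. -/
noncomputable def D : Idx.{u} ⥤ EtCoh.Ab X where
  obj i := T F i
  map {i j} f := kernel.lift _ (kernel.ι (ex i • 𝟙 F)) (ι_zero F (leOfHom f))
  map_id i := equalizer.hom_ext (by simp)
  map_comp f g := equalizer.hom_ext (by simp)

/-- The comparison with `F`. -/
noncomputable def cocone : Cocone (D F) where
  pt := F
  ι := { app := fun i => kernel.ι _, naturality := fun i j f => (kernel.lift_ι _ _ _).trans (Category.comp_id _).symm }

theorem ι_app_injective (i : Idx.{u}) (U : X.Etale) :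
    Function.Injective ((kernel.ι (ex i • 𝟙 F)).hom.app (op U)).hom :=
  SiteBase.sheaf_app_injective (kernel.ι (ex i • 𝟙 F)) U

theorem isIso_desc (hF : EtCoh.IsTorsion F) : IsIso (colimit.desc (D F) (cocone F)) := by
  set δ := colimit.desc (D F) (cocone F) with hδ
  haveI : Sheaf.IsLocallyInjective δ := ⟨fun {U} s t e => by
    refine (EtFound.mem_topology_iff _).2 fun x => ?_
    obtain ⟨O, hO, hx, -⟩ := exists_isAffineOpen_mem_and_subset (U := (⊤ : U.unop.left.Opens)) (x := x) trivial
    haveI : Etale U.unop.hom := U.unop.prop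
    let V : X.Etale := Scheme.Etale.mk (O.ι ≫ U.unop.hom)
    let g : V ⟶ U.unop := MorphismProperty.Over.homMk O.ι rfl trivial
    haveI : IsAffine V.left := hO
    haveI := EtFound.preservesColimitsOfShape_sections_qcqs_ab V (EtFound.isQcqsObj_of_isAffine V) Idx.{u}
    let hc := isColimitOfPreserves (sheafToPresheaf X.smallEtaleTopology AddCommGrpCat.{u + 1} ⋙
      (evaluation X.Etaleᵒᵖ AddCommGrpCat.{u + 1}).obj (op V)) (colimit.isColimit (D F))
    refine ⟨V, g, (⟨x, hx⟩ : O.toScheme), ?_, rfl⟩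
    obtain ⟨i, a, ha⟩ := Concrete.isColimit_exists_rep _ hc (((colimit (D F)).obj.map g.op).hom s)
    obtain ⟨j, b, hb⟩ := Concrete.isColimit_exists_rep _ hc (((colimit (D F)).obj.map g.op).hom t)
    let k : Idx.{u} := i ⊔ j
    let a' := ((D F).map (homOfLE (le_sup_left : i ≤ k))).hom.app (op V) a
    let b' := ((D F).map (homOfLE (le_sup_right : j ≤ k))).hom.app (op V) b
    have ha' : (colimit.ι (D F) k).hom.app (op V) a' = ((colimit (D F)).obj.map g.op).hom s := by
      exact (congrArg (fun t : (D F).obj i ⟶ colimit (D F) => (t.hom.app (op V)).hom a)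
        (colimit.w (D F) (homOfLE (le_sup_left : i ≤ k)))).trans ha
    have hb' : (colimit.ι (D F) k).hom.app (op V) b' = ((colimit (D F)).obj.map g.op).hom t := by
      exact (congrArg (fun t : (D F).obj j ⟶ colimit (D F) => (t.hom.app (op V)).hom b)
        (colimit.w (D F) (homOfLE (le_sup_right : j ≤ k)))).trans hb
    have hι : ∀ z, (δ.hom.app (op V)).hom ((colimit.ι (D F) k).hom.app (op V) z) =
        ((kernel.ι (ex k • 𝟙 F)).hom.app (op V)).hom z := fun z =>
      congrArg (fun t : (D F).obj k ⟶ F => (t.hom.app (op V)).hom z) (colimit.ι_desc (cocone F) k)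
    have hab : a' = b' := ι_app_injective F k V <| by
      rw [← hι, ← hι, ha', hb']
      exact (NatTrans.naturality_apply δ.hom g.op s).trans
        ((congrArg (F.obj.map g.op).hom e).trans (NatTrans.naturality_apply δ.hom g.op t).symm)
    show ((colimit (D F)).obj.map g.op).hom s = ((colimit (D F)).obj.map g.op).hom t
    rw [← ha', ← hb', hab]⟩
  haveI : Sheaf.IsLocallySurjective δ := ⟨fun {U} s => by
    refine (EtFound.mem_topology_iff _).2 fun x => ?_
    obtain ⟨V, g, ⟨v, hv⟩, hfin⟩ := hF U s x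
    obtain ⟨m, hm0, hm⟩ := isOfFinAddOrder_iff_nsmul_eq_zero.1 hfin
    let i : Idx.{u} := ⟨m⟩
    have hz : (ex i • 𝟙 F : F ⟶ F).hom.app (op V) ((F.obj.map g.op).hom s) = 0 := by
      rw [EtFound.nsmul_hom_app (𝟙 F)]
      obtain ⟨c, hc⟩ := Nat.dvd_factorial hm0 (Nat.le_succ m)
      show ex i • (F.obj.map g.op).hom s = 0
      rw [show ex i = c * m by rw [ex, hc, Nat.mul_comm], mul_smul, hm, smul_zero]
    obtain ⟨a, ha⟩ := SiteBase.exists_kernel_section (ShortComplex.mk (kernel.ι (ex i • 𝟙 F)) (ex i • 𝟙 F) (kernel.condition _)) V ((F.obj.map g.op).hom s) hz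
    refine ⟨V, g, v, ⟨(colimit.ι (D F) i).hom.app (op V) a, ?_⟩, hv⟩
    exact (congrArg (fun t : (D F).obj i ⟶ F => (t.hom.app (op V)).hom a) (colimit.ι_desc (cocone F) i)).trans ha⟩
  exact (Sheaf.isLocallyBijective_iff_isIso δ).1 ⟨inferInstance, inferInstance⟩

theorem map_nsmul_id (m n : ℕ) (x : EtCoh.H X F n) : Sheaf.H.map (m • 𝟙 F) n x = m • x := by
  induction m with
  | zero => rw [zero_smul, zero_smul, Sheaf.H.map_apply, Ext.mk₀_zero, Ext.comp_zero]
  | succ m ih => rw [succ_nsmul, succ_nsmul, Sheaf.H.map_add_apply, ih, Sheaf.H.map_id_apply]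

/-- The cohomology of a torsion sheaf on a qcqs scheme is torsion. -/
theorem isAddTorsion_H [CompactSpace X] [QuasiSeparatedSpace X] (hF : EtCoh.IsTorsion F) (n : ℕ) :
    IsAddTorsion (EtCoh.H X F n) := by
  haveI := isIso_desc F hF
  haveI := QcqsAcyclic.preservesColimitsOfShape_HF X n Idx.{u}
  intro x
  let hc := isColimitOfPreserves (EtCoh.HF X n) (colimit.isColimit (D F))
  obtain ⟨i, y, hy⟩ := Concrete.isColimit_exists_rep _ hc
    (((EtCoh.HF X n).map (inv (colimit.desc (D F) (cocone F)))).hom x)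
  refine isOfFinAddOrder_iff_nsmul_eq_zero.2 ⟨ex i, Nat.factorial_pos _, ?_⟩
  have hinv : inv (colimit.desc (D F) (cocone F)) ≫ colimit.desc (D F) (cocone F) = 𝟙 F := IsIso.inv_hom_id _
  have hx : x = Sheaf.H.map (kernel.ι (ex i • 𝟙 F)) n y := by
    have h2 := congrArg (Sheaf.H.map (colimit.desc (D F) (cocone F)) n) hy
    change Sheaf.H.map (colimit.desc (D F) (cocone F)) n (Sheaf.H.map (colimit.ι (D F) i) n y) =
      Sheaf.H.map (colimit.desc (D F) (cocone F)) n (Sheaf.H.map (inv (colimit.desc (D F) (cocone F))) n x) at h2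
    rw [← Sheaf.H.map_comp_apply, ← Sheaf.H.map_comp_apply, colimit.ι_desc, hinv] at h2
    exact ((Sheaf.H.map_id_apply x).symm.trans h2.symm)
  rw [hx, ← map_nsmul_id, ← Sheaf.H.map_comp_apply, kernel.condition, Sheaf.H.map_apply, Ext.mk₀_zero, Ext.comp_zero]

end Groth.Agent.EtLC12.TorsionColim
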