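import Groth.Agent.EtLC12.NatCompare
import Groth.Agent.EtLC12.GaZar
import Groth.Agent.EtLC12.ArtinSchreier
import Groth.Agent.QCoh.DevissageP
import Groth.Agent.S0002
import Groth.Agent.S13366
import Groth.Agent.LangLib.Semilinear

/-!
# The scalar action on the étale cohomology of `G_a`, and surjectivity of Artin–Schreier
-/

set_option autoImplicit false
set_option backward.isDefEq.respectTransparency false
set_option backward.isDefEq.respectTransparency.types false
set_option linter.style.haveILetI false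

universe v u

open CategoryTheory CategoryTheory.Limits AlgebraicGeometry Opposite TopologicalSpace Abelian

namespace Groth.Agent.EtLC12.GaLinear

theorem isSepClosed_of_equiv {k L : Type u} [Field k] [Field L] [IsSepClosed k] (e : k ≃+* L) : IsSepClosed L := by
  refine IsSepClosed.of_exists_root L fun q _ hirr hsep => ?_
  obtain ⟨x, hx⟩ := IsSepClosed.exists_eval₂_eq_zero e.symm.toRingHom q (Polynomial.degree_pos_of_irreducible hirr).ne' hsep
  refine ⟨e x, e.symm.injective ?_⟩
  rw [map_zero]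
  refine Eq.trans ?_ hx
  refine (Polynomial.eval₂_at_apply e.symm.toRingHom (e x)).symm.trans ?_
  exact congrArg (fun y => Polynomial.eval₂ e.symm.toRingHom y q) (e.symm_apply_apply x)

/-- A semilinear `F` on a finite dimensional space over a separably closed field has `F - 1` surjective. -/
theorem sub_id_surjective {k : Type u} [Field k] [IsSepClosed k] (p : ℕ) [Fact p.Prime] [CharP k p] :
    ∀ (n : ℕ) (V : Type v) [AddCommGroup V] [Module k V] [Module.Finite k V],
      Module.finrank k V = n → ∀ T : V →+ V, (∀ (c : k) (m : V), T (c • m) = c ^ p • T m) →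
        Function.Surjective fun m => T m - m := by
  intro n
  induction n using Nat.strong_induction_on with
  | _ n ih =>
    intro V _ _ _ hn T hT
    by_cases hspan : Submodule.span k (Set.range T) = ⊤
    · haveI : IsSepClosed (IsLocalRing.ResidueField k) :=
        isSepClosed_of_equiv (RingEquiv.ofBijective (IsLocalRing.residue k)
            ⟨(IsLocalRing.residue k).injective, IsLocalRing.residue_surjective⟩)
      exact (Groth.Agent.S13366.result p T hT hspan).1
    · let W := Submodule.span k (Set.range T)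
      have hW : ∀ v, T v ∈ W := fun v => Submodule.subset_span ⟨v, rfl⟩
      let T' : W →+ W := AddMonoidHom.mk' (fun w => ⟨T w.1, hW w.1⟩) fun a b => Subtype.ext (map_add T a.1 b.1)
      intro w
      obtain ⟨u, hu⟩ := ih _ (hn ▸ Submodule.finrank_lt hspan) W rfl T'
        (fun c m => Subtype.ext (hT c m.1)) ⟨T w, hW w⟩
      refine ⟨u.1 - w, ?_⟩
      have hu' : T u.1 - u.1 = T w := congrArg Subtype.val hu
      show T (u.1 - w) - (u.1 - w) = w
      rw [map_sub, ← hu']
      abel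

variable {X : Scheme.{u}}

/-- Restriction of a global function to an étale `X`-scheme. -/
noncomputable def ρ (U : X.Etale) : Γ(X, ⊤) →+* Γ(U.left, ⊤) := U.hom.appTop.hom

theorem ρ_nat {U V : X.Etale} (g : V ⟶ U) (a : Γ(X, ⊤)) :
    (g.left.appTop.hom : Γ(U.left, ⊤) →+* Γ(V.left, ⊤)) (ρ U a) = ρ V a := by
  have h : g.left ≫ U.hom = V.hom := MorphismProperty.Over.w g
  exact congrArg (fun t : V.left ⟶ X => t.appTop a) h

/-- Multiplication by a global function on `G_a`. -/
noncomputable def mulGa (a : Γ(X, ⊤)) : EtCoh.Ga X ⟶ EtCoh.Ga X :=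
  ⟨{ app := fun U => AddCommGrpCat.uliftFunctor.{u + 1}.map
        (AddCommGrpCat.ofHom (AddMonoidHom.mulLeft (ρ U.unop a)))
     naturality := by
       intro U V g
       ext ⟨(x : Γ(U.unop.left, ⊤))⟩
       refine congrArg ULift.up ?_
       refine Eq.trans ?_ (map_mul g.unop.left.appTop.hom (ρ U.unop a) x).symm
       exact congrArg (fun t : Γ(V.unop.left, ⊤) => t * g.unop.left.appTop.hom x) (ρ_nat g.unop a).symm }⟩

/-- The Frobenius of `G_a`. -/
noncomputable def frobGa (p : ℕ) [Fact p.Prime] (h0 : (p : Γ(X, ⊤)) = 0) : EtCoh.Ga X ⟶ EtCoh.Ga X :=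
  ArtinSchreier.as p h0 + 𝟙 _

theorem mulGa_frobGa (p : ℕ) [Fact p.Prime] (h0 : (p : Γ(X, ⊤)) = 0) (a : Γ(X, ⊤)) :
    mulGa a ≫ frobGa p h0 = frobGa p h0 ≫ mulGa (a ^ p) := by
  refine Sheaf.hom_ext (NatTrans.ext (funext fun U => AddCommGrpCat.hom_ext (AddMonoidHom.ext fun x => ?_)))
  obtain ⟨(x : Γ(U.unop.left, ⊤))⟩ := x
  refine congrArg ULift.up ?_
  show (ρ U.unop a * x) ^ p - ρ U.unop a * x + ρ U.unop a * x = ρ U.unop (a ^ p) * (x ^ p - x + x)
  rw [map_pow]
  ring

theorem topIso_mul (V : X.Opens) (a : Γ(X, ⊤)) (x : Γ(V.toScheme, ⊤)) :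
    (Scheme.Opens.topIso V).hom ((V.ι.appTop.hom : Γ(X, ⊤) →+* Γ(V.toScheme, ⊤)) a * x) =
      ((X.presheaf.map (homOfLE le_top).op).hom : Γ(X, ⊤) →+* Γ(X, V)) a * (Scheme.Opens.topIso V).hom x := by
  rw [map_mul]
  refine congrArg (· * (Scheme.Opens.topIso V).hom x) ?_
  rw [Scheme.Opens.ι_appTop, Scheme.Opens.topIso_hom]
  dsimp [Scheme.Opens.toScheme_presheaf_obj]
  rw [← ConcreteCategory.comp_apply, ← Functor.map_comp]
  rfl

theorem resZar_mulGa [EtZar.ZarCont X] (a : Γ(X, ⊤)) :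
    (EtZar.resZar X).map (mulGa a) ≫ (GaZar.resGaIso X).hom =
      (GaZar.resGaIso X).hom ≫ (ZarLift.lift X).map (Coh.smulAb (Coh.structureModule X) a) := by
  refine Sheaf.hom_ext (NatTrans.ext (funext fun U => AddCommGrpCat.hom_ext (AddMonoidHom.ext fun x => ?_)))
  exact congrArg ULift.up (topIso_mul U.unop a x.down)

/-- Étale cohomology of `G_a` is coherent cohomology, compatibly with global functions. -/
theorem exists_equiv (X : Scheme.{u}) (n : ℕ) :
    ∃ ε : EtCoh.H X (EtCoh.Ga X) n ≃+ Coh.HH X (Coh.structureModule X) n,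
      ∀ (a : Γ(X, ⊤)) (x : EtCoh.H X (EtCoh.Ga X) n),
        ε (Sheaf.H.map (mulGa a) n x) = Sheaf.H.map (Coh.smulAb (Coh.structureModule X) a) n (ε x) := by
  haveI : EtZar.ZarCont X := EtZarCompare.zarCont X
  obtain ⟨e₁, he₁⟩ := NatCompare.exists_natural_equiv (EtCore.topIsTerminal X) (T₂ := (⊤ : X.Opens))
    (IsTerminal.ofUnique _) (EtZar.resZar X)
    (fun G => (G.obj.mapIso (EtZarCompare.topIso (X := X)).op).addCommGroupIsoToAddEquiv)
    (fun f x => (NatTrans.naturality_apply f.hom (EtZarCompare.topIso (X := X)).op.hom x))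
    AffineCartan.IsAffAcyclic
    (fun E hE hI h1 => AffineCartan.isAffAcyclic_X₃ E hE h1 (AffineCartan.isAffAcyclic_of_injective E.X₂))
    (fun E hE _ h1 => EtZarCompare.shortExact_resZar E hE h1)
    (fun I hI k => haveI := hI; Adeq2Lib.ZarFl.subsingleton_H_of_flq k _ (EtZarCompare.flq_resZar_injective I))
    n _ (GaAmitsur.isAffAcyclic_Ga X)
  obtain ⟨e₂, he₂⟩ := NatCompare.exists_natural_equiv (T₁ := (⊤ : X.Opens)) (IsTerminal.ofUnique _)
    (T₂ := (⊤ : X.Opens)) (IsTerminal.ofUnique _) (ZarLift.lift X) (fun G => AddEquiv.ulift.symm) (fun _ _ => rfl)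
    (fun _ => True) (fun _ _ _ _ => trivial) (fun _ hE _ _ => ZarLift.shortExact_lift hE)
    (fun I hI k => haveI := hI; Adeq2Lib.ZarFl.subsingleton_H_of_flq k _ (ZarLift.flq_lift_injective I))
    n (Coh.toAb (Coh.structureModule X)) trivial
  let i := ((Sheaf.functorH _ n).mapIso (GaZar.resGaIso X)).addCommGroupIsoToAddEquiv
  refine ⟨(e₁.trans i).trans e₂.symm, fun a x => e₂.injective ?_⟩
  have h1 : e₂ (((e₁.trans i).trans e₂.symm) (Sheaf.H.map (mulGa a) n x)) =
      i (e₁ (Sheaf.H.map (mulGa a) n x)) := e₂.apply_symm_apply _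
  refine h1.trans ?_
  rw [he₁, he₂]
  refine Eq.trans ?_ (congrArg (Sheaf.H.map _ n) (e₂.apply_symm_apply _)).symm
  show Sheaf.H.map (GaZar.resGaIso X).hom n (Sheaf.H.map ((EtZar.resZar X).map (mulGa a)) n (e₁ x)) =
    Sheaf.H.map _ n (Sheaf.H.map (GaZar.resGaIso X).hom n (e₁ x))
  rw [← Sheaf.H.map_comp_apply, resZar_mulGa, Sheaf.H.map_comp_apply]

/-- Artin–Schreier is surjective on the cohomology of `G_a` of a proper scheme over a separably closed field. -/
theorem as_surjective {k : Type u} [Field k] [IsSepClosed k] (p : ℕ) [Fact p.Prime] [CharP k p]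
    (f : X ⟶ Spec (CommRingCat.of k)) [IsProper f] (h0 : (p : Γ(X, ⊤)) = 0) (n : ℕ) :
    Function.Surjective (Sheaf.H.map (ArtinSchreier.as p h0) n :
      EtCoh.H X (EtCoh.Ga X) n →+ EtCoh.H X (EtCoh.Ga X) n) := by
  letI : X.Over (Spec (CommRingCat.of k)) := ⟨f⟩
  haveI : IsProper (X ↘ Spec (CommRingCat.of k)) := ‹IsProper f›
  haveI : IsLocallyNoetherian X := LocallyOfFiniteType.isLocallyNoetherian f
  haveI : Module.Finite k (Coh.HH X (Coh.structureModule X) n) :=
    Groth.Agent.S0002.result k X _ QCoh.isCoh_structureModule' n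
  obtain ⟨ε, hε⟩ := exists_equiv X n
  let T : Coh.HH X (Coh.structureModule X) n →+ Coh.HH X (Coh.structureModule X) n :=
    (ε.toAddMonoidHom.comp (Sheaf.H.map (frobGa p h0) n)).comp ε.symm.toAddMonoidHom
  have hT : ∀ (c : k) m, T (c • m) = c ^ p • T m := fun c m => by
    obtain ⟨x, rfl⟩ := ε.surjective m
    let a := Coh.toGlobal (X ↘ Spec (CommRingCat.of k)) c
    have h1 : c • ε x = ε (Sheaf.H.map (mulGa a) n x) := (hε a x).symm
    have hT' : ∀ y, T (ε y) = ε (Sheaf.H.map (frobGa p h0) n y) := fun y =>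
      congrArg (fun t => ε (Sheaf.H.map (frobGa p h0) n t)) (ε.symm_apply_apply y)
    rw [h1, hT', hT', ← Sheaf.H.map_comp_apply, mulGa_frobGa, Sheaf.H.map_comp_apply, hε]
    show Sheaf.H.map (Coh.smulAb _ (a ^ p)) n _ = Sheaf.H.map (Coh.smulAb _ (Coh.toGlobal _ (c ^ p))) n _
    rw [map_pow]
  intro y
  obtain ⟨m, hm⟩ := sub_id_surjective p _ _ rfl T hT (ε y)
  refine ⟨ε.symm m, ε.injective ?_⟩
  refine Eq.trans ?_ hm
  have hF : Sheaf.H.map (frobGa p h0) n (ε.symm m) =
      Sheaf.H.map (ArtinSchreier.as p h0) n (ε.symm m) + ε.symm m := by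
    rw [frobGa, Sheaf.H.map_add_apply, Sheaf.H.map_id_apply]
  show _ = ε (Sheaf.H.map (frobGa p h0) n (ε.symm m)) - m
  rw [hF, map_add, AddEquiv.apply_symm_apply, add_sub_cancel_right]

end Groth.Agent.EtLC12.GaLinear

namespace Groth.Agent.EtLC12.GaLinear

variable {X : Scheme.{u}}

/-- The semilinear Frobenius on coherent cohomology seen through `ε`. -/
theorem finite_fixed {k : Type u} [Field k] [IsAlgClosed k] (p : ℕ) [Fact p.Prime] [CharP k p]
    (f : X ⟶ Spec (CommRingCat.of k)) [IsProper f] (h0 : (p : Γ(X, ⊤)) = 0) (n : ℕ) :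
    Finite {x : EtCoh.H X (EtCoh.Ga X) n // Sheaf.H.map (ArtinSchreier.as p h0) n x = 0} := by
  letI : X.Over (Spec (CommRingCat.of k)) := ⟨f⟩
  haveI : IsProper (X ↘ Spec (CommRingCat.of k)) := ‹IsProper f›
  haveI : IsLocallyNoetherian X := LocallyOfFiniteType.isLocallyNoetherian f
  haveI : Module.Finite k (Coh.HH X (Coh.structureModule X) n) :=
    Groth.Agent.S0002.result k X _ QCoh.isCoh_structureModule' n
  obtain ⟨ε, hε⟩ := exists_equiv X n
  let T : Coh.HH X (Coh.structureModule X) n →+ Coh.HH X (Coh.structureModule X) n :=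
    (ε.toAddMonoidHom.comp (Sheaf.H.map (frobGa p h0) n)).comp ε.symm.toAddMonoidHom
  have hT' : ∀ y, T (ε y) = ε (Sheaf.H.map (frobGa p h0) n y) := fun y =>
    congrArg (fun t => ε (Sheaf.H.map (frobGa p h0) n t)) (ε.symm_apply_apply y)
  have hT : ∀ (c : k) m, T (c • m) = c ^ p • T m := fun c m => by
    obtain ⟨x, rfl⟩ := ε.surjective m
    let a := Coh.toGlobal (X ↘ Spec (CommRingCat.of k)) c
    have h1 : c • ε x = ε (Sheaf.H.map (mulGa a) n x) := (hε a x).symm
    rw [h1, hT', hT', ← Sheaf.H.map_comp_apply, mulGa_frobGa, Sheaf.H.map_comp_apply, hε]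
    show Sheaf.H.map (Coh.smulAb _ (a ^ p)) n _ = Sheaf.H.map (Coh.smulAb _ (Coh.toGlobal _ (c ^ p))) n _
    rw [map_pow]
  haveI : Finite {v | T v = v} := (LangLib.fixed_finite p T hT).1.to_subtype
  refine Finite.of_injective (fun x => (⟨ε x.1, ?_⟩ : {v | T v = v})) fun x y h =>
    Subtype.ext (ε.injective (congrArg Subtype.val h))
  show T (ε x.1) = ε x.1
  rw [hT', frobGa, Sheaf.H.map_add_apply, Sheaf.H.map_id_apply, x.2, zero_add]

/-- `H^q(X, ℤ/p)` is finite for `X` proper over an algebraically closed field of characteristic `p`. -/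
theorem finite_H_const {k : Type u} [Field k] [IsAlgClosed k] (p : ℕ) [Fact p.Prime] [CharP k p]
    (f : X ⟶ Spec (CommRingCat.of k)) [IsProper f] (h0 : (p : Γ(X, ⊤)) = 0) (q : ℕ) :
    Finite (EtCoh.H X (EtCoh.const X (ZMod p)) q) := by
  have hT := ArtinSchreier.shortExact_kernel p h0
  suffices hK : Finite (EtCoh.H X (kernel (ArtinSchreier.as p h0)) q) by
    haveI : Finite ((EtCoh.HF X q).obj (kernel (ArtinSchreier.as p h0))) := hK
    exact Finite.of_equiv _ ((EtCoh.HF X q).mapIso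
      (asIso (ArtinSchreier.constToKer p h0))).addCommGroupIsoToAddEquiv.toEquiv.symm
  haveI := finite_fixed p f h0 q
  have hcomp : ∀ x, Sheaf.H.map (ArtinSchreier.as p h0) q (Sheaf.H.map (kernel.ι (ArtinSchreier.as p h0)) q x) = 0 :=
    fun x => by
      rw [← Sheaf.H.map_comp_apply, kernel.condition, Sheaf.H.map_apply, Ext.mk₀_zero, Ext.comp_zero]
  refine Finite.of_injective (fun x => (⟨_, hcomp x⟩ :
    {x : EtCoh.H X (EtCoh.Ga X) q // Sheaf.H.map (ArtinSchreier.as p h0) q x = 0})) fun x y h => ?_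
  have h' : Sheaf.H.map (kernel.ι (ArtinSchreier.as p h0)) q (x - y) = 0 := by
    rw [map_sub, sub_eq_zero]
    exact congrArg Subtype.val h
  rw [← sub_eq_zero]
  cases q with
  | zero =>
    haveI := hT.mono_f
    let hX := EtCore.topIsTerminal X
    apply (Sheaf.H.equiv₀ _ hX).injective
    rw [map_zero]
    refine SiteBase.sheaf_app_injective (kernel.ι (ArtinSchreier.as p h0)) _ ?_
    rw [map_zero]
    refine (Sheaf.H.equiv₀_naturality hX (kernel.ι (ArtinSchreier.as p h0)) _).trans ?_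
    rw [h', map_zero]
  | succ n =>
    obtain ⟨z, hz⟩ := Ext.covariant_sequence_exact₁ _ hT (x - y) h' (rfl : n + 1 = n + 1)
    obtain ⟨w, rfl⟩ := as_surjective p f h0 n z
    rw [← hz, Sheaf.H.map_apply, Ext.comp_assoc_of_second_deg_zero]
    exact (congrArg (fun t => Ext.comp w t rfl) hT.comp_extClass).trans (Ext.comp_zero _ _ _ _ _)

end Groth.Agent.EtLC12.GaLinear
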