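import Groth.Agent.Lib.ExtNatCompare
import Groth.Agent.EtLC12.HCompare

/-!
# Comparison of sheaf cohomology on two sites, natural in endomorphisms
-/

set_option autoImplicit false
set_option linter.style.haveILetI false

universe w₁' w₂' w₁ w₂ v₁ v₂ u₁ u₂

open CategoryTheory Limits Opposite Abelian

namespace Groth.Agent.EtLC12.NatCompare

open Groth.Agent.Adeq2Lib

variable {C₁ : Type u₁} [Category.{v₁} C₁] {J₁ : GrothendieckTopology C₁}
  [HasSheafify J₁ AddCommGrpCat.{w₁}] [HasExt.{w₁'} (Sheaf J₁ AddCommGrpCat.{w₁})]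
  [EnoughInjectives (Sheaf J₁ AddCommGrpCat.{w₁})]
  {C₂ : Type u₂} [Category.{v₂} C₂] {J₂ : GrothendieckTopology C₂}
  [HasSheafify J₂ AddCommGrpCat.{w₂}] [HasExt.{w₂'} (Sheaf J₂ AddCommGrpCat.{w₂})]

/-- A functor matching global sections, exact on the injective presentations of the class `P` and sending
injectives to acyclic sheaves, respects the cohomology of the class, naturally in endomorphisms. -/
theorem exists_natural_equiv {T₁ : C₁} (hT₁ : IsTerminal T₁) {T₂ : C₂} (hT₂ : IsTerminal T₂)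
    (Φ : Sheaf J₁ AddCommGrpCat.{w₁} ⥤ Sheaf J₂ AddCommGrpCat.{w₂}) [Φ.PreservesZeroMorphisms]
    (sec : ∀ G : Sheaf J₁ AddCommGrpCat.{w₁}, G.obj.obj (op T₁) ≃+ (Φ.obj G).obj.obj (op T₂))
    (hsec : ∀ {G G' : Sheaf J₁ AddCommGrpCat.{w₁}} (f : G ⟶ G') (x : G.obj.obj (op T₁)),
      ((Φ.map f).hom.app (op T₂)).hom (sec G x) = sec G' ((f.hom.app (op T₁)).hom x))
    (P : Sheaf J₁ AddCommGrpCat.{w₁} → Prop)
    (hP : ∀ E : ShortComplex (Sheaf J₁ AddCommGrpCat.{w₁}), E.ShortExact → Injective E.X₂ → P E.X₁ → P E.X₃)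
    (hex : ∀ E : ShortComplex (Sheaf J₁ AddCommGrpCat.{w₁}), E.ShortExact → Injective E.X₂ → P E.X₁ →
      (E.map Φ).ShortExact)
    (hinj : ∀ I : Sheaf J₁ AddCommGrpCat.{w₁}, Injective I → ∀ k, Subsingleton (Sheaf.H (Φ.obj I) (k + 1)))
    (n : ℕ) : ∀ G, P G → ∃ ε : Sheaf.H G n ≃+ Sheaf.H (Φ.obj G) n,
      ∀ (g : G ⟶ G) (x : Sheaf.H G n), ε (Sheaf.H.map g n x) = Sheaf.H.map (Φ.map g) n (ε x) := by
  induction n with
  | zero =>
    intro G _
    refine ⟨((Sheaf.H.equiv₀ G hT₁).trans (sec G)).trans (Sheaf.H.equiv₀ _ hT₂).symm, fun g x => ?_⟩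
    simp only [AddEquiv.trans_apply]
    rw [← Sheaf.H.equiv₀_naturality hT₁ g, ← hsec]
    exact (Sheaf.H.equiv₀_symm_naturality hT₂ (Φ.map g) _).symm
  | succ m ih =>
    intro G hG
    suffices H : ∀ E : ShortComplex (Sheaf J₁ AddCommGrpCat.{w₁}), E.ShortExact → Injective E.X₂ → P E.X₁ →
        ∃ ε : Sheaf.H E.X₁ (m + 1) ≃+ Sheaf.H (Φ.obj E.X₁) (m + 1), ∀ (g : E.X₁ ⟶ E.X₁) (x : Sheaf.H E.X₁ (m + 1)),
          ε (Sheaf.H.map g _ x) = Sheaf.H.map (Φ.map g) _ (ε x) by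
      let Q := Classical.arbitrary (InjectivePresentation G)
      exact H Q.shortComplex Q.shortExact_shortComplex Q.injective hG
    intro E hE hI hE₁
    haveI := hI
    haveI := hE.mono_f
    haveI := hE.epi_g
    have hE' := hex _ hE hI hE₁
    haveI : ∀ k, Subsingleton (Sheaf.H E.X₂ (k + 1)) := fun k =>
      subsingleton_of_forall_eq 0 fun x => Ext.eq_zero_of_injective x
    haveI : ∀ k, Subsingleton (Sheaf.H (E.map Φ).X₂ (k + 1)) := hinj _ hI
    have hext : ∀ g : E.X₁ ⟶ E.X₁, ∃ α : E ⟶ E, α.τ₁ = g := fun g => by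
      let ψ : E.X₂ ⟶ E.X₂ := Injective.factorThru (g ≫ E.f) E.f
      have hψ : E.f ≫ ψ = g ≫ E.f := Injective.comp_factorThru _ _
      have hz : E.f ≫ ψ ≫ E.g = 0 := by
        rw [← Category.assoc, hψ, Category.assoc, E.zero, comp_zero]
      exact ⟨{ τ₁ := g, τ₂ := ψ, τ₃ := hE.gIsCokernel.desc (CokernelCofork.ofπ (ψ ≫ E.g) hz)
               comm₁₂ := hψ.symm
               comm₂₃ := (hE.gIsCokernel.fac (CokernelCofork.ofπ (ψ ≫ E.g) hz)
                 WalkingParallelPair.one).symm }, rfl⟩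
    have hnatA : ∀ (α : E ⟶ E) {q : ℕ} (y : Sheaf.H E.X₃ q) {q' : ℕ} (hq : q + 1 = q'),
        Sheaf.H.map α.τ₁ q' (y.comp hE.extClass hq) = (Sheaf.H.map α.τ₃ q y).comp hE.extClass hq := fun α q y q' hq => by
      rw [Sheaf.H.map_apply, Sheaf.H.map_apply, Ext.comp_assoc_of_third_deg_zero,
        ShortComplex.ShortExact.extClass_naturality hE hE α, Ext.comp_assoc_of_second_deg_zero]
    have hnatB : ∀ (α : E ⟶ E) {q : ℕ} (y : Sheaf.H (E.map Φ).X₃ q) {q' : ℕ} (hq : q + 1 = q'),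
        Sheaf.H.map (Φ.map α.τ₁) q' (y.comp hE'.extClass hq) =
          (Sheaf.H.map (Φ.map α.τ₃) q y).comp hE'.extClass hq := fun α q y q' hq => by
      refine (Ext.comp_assoc_of_third_deg_zero _ _ _ _).trans ?_
      refine Eq.trans ?_ (Ext.comp_assoc_of_second_deg_zero y (Ext.mk₀ (Φ.map α.τ₃)) hE'.extClass hq).symm
      exact congrArg (fun z => y.comp z hq)
        (ShortComplex.ShortExact.extClass_naturality hE' hE' (Φ.mapShortComplex.map α))
    cases m with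
    | zero =>
      let a : E.X₃.obj.obj (op T₁) →+ Sheaf.H E.X₁ 1 :=
        (hE.extClass.postcomp _ (zero_add 1)).comp (Sheaf.H.equiv₀ E.X₃ hT₁).symm.toAddMonoidHom
      let b : E.X₃.obj.obj (op T₁) →+ Sheaf.H (E.map Φ).X₁ 1 :=
        ((hE'.extClass.postcomp _ (zero_add 1)).comp (Sheaf.H.equiv₀ (Φ.obj E.X₃) hT₂).symm.toAddMonoidHom).comp
          (sec E.X₃).toAddMonoidHom
      have ha : Function.Surjective a := fun z => by
        obtain ⟨y, rfl⟩ := Ext.covariant_sequence_exact₁ _ hE z (Subsingleton.elim (α := Sheaf.H E.X₂ 1) _ _) (n₀ := 0) rfl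
        exact ⟨Sheaf.H.equiv₀ E.X₃ hT₁ y,
          congrArg (fun t : Sheaf.H E.X₃ 0 => t.comp hE.extClass (zero_add 1)) ((Sheaf.H.equiv₀ E.X₃ hT₁).symm_apply_apply y)⟩
      have hb : Function.Surjective b := fun z => by
        obtain ⟨y, rfl⟩ := Ext.covariant_sequence_exact₁ _ hE' z (Subsingleton.elim (α := Sheaf.H (E.map Φ).X₂ 1) _ _) (n₀ := 0) rfl
        refine ⟨(sec E.X₃).symm (Sheaf.H.equiv₀ (Φ.obj E.X₃) hT₂ y), ?_⟩
        refine congrArg (fun t => Ext.comp t hE'.extClass (zero_add 1)) ?_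
        refine (congrArg (Sheaf.H.equiv₀ (Φ.obj E.X₃) hT₂).symm ((sec E.X₃).apply_symm_apply _)).trans ?_
        exact (Sheaf.H.equiv₀ (Φ.obj E.X₃) hT₂).symm_apply_apply y
      have hka : ∀ y, a y = 0 ↔ ∃ x, (E.g.hom.app (op T₁)).hom x = y := fun y => by
        constructor
        · intro h
          obtain ⟨x, hx⟩ := Ext.covariant_sequence_exact₃ _ hE ((Sheaf.H.equiv₀ E.X₃ hT₁).symm y) (n₁ := 1) (zero_add 1) h
          refine ⟨Sheaf.H.equiv₀ E.X₂ hT₁ x, ?_⟩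
          rw [Sheaf.H.equiv₀_naturality, Sheaf.H.map_apply, hx, AddEquiv.apply_symm_apply]
        · rintro ⟨x, rfl⟩
          show ((Sheaf.H.equiv₀ E.X₃ hT₁).symm ((E.g.hom.app (op T₁)).hom x)).comp hE.extClass (zero_add 1) = 0
          rw [← Sheaf.H.equiv₀_symm_naturality, Sheaf.H.map_apply, Ext.comp_assoc_of_second_deg_zero, hE.comp_extClass,
            Ext.comp_zero]
      have hkb : ∀ y, b y = 0 ↔ ∃ x, (E.g.hom.app (op T₁)).hom x = y := fun y => by
        constructor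
        · intro h
          obtain ⟨x, hx⟩ := Ext.covariant_sequence_exact₃ _ hE'
            ((Sheaf.H.equiv₀ (Φ.obj E.X₃) hT₂).symm (sec E.X₃ y)) (n₁ := 1) (zero_add 1) h
          refine ⟨(sec E.X₂).symm (Sheaf.H.equiv₀ (Φ.obj E.X₂) hT₂ x), (sec E.X₃).injective ?_⟩
          rw [← hsec, AddEquiv.apply_symm_apply]
          refine (Sheaf.H.equiv₀_naturality hT₂ (Φ.map E.g) x).trans ?_
          refine (congrArg (Sheaf.H.equiv₀ (Φ.obj E.X₃) hT₂) hx).trans ?_
          exact AddEquiv.apply_symm_apply _ _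
        · rintro ⟨x, rfl⟩
          show ((Sheaf.H.equiv₀ (Φ.obj E.X₃) hT₂).symm (sec E.X₃ ((E.g.hom.app (op T₁)).hom x))).comp hE'.extClass
            (zero_add 1) = 0
          rw [← hsec, ← Sheaf.H.equiv₀_symm_naturality]
          refine (Ext.comp_assoc_of_second_deg_zero _ _ _ _).trans ?_
          exact (congrArg (fun z => Ext.comp ((Sheaf.H.equiv₀ (Φ.obj E.X₂) hT₂).symm (sec E.X₂ x)) z (zero_add 1))
            hE'.comp_extClass).trans (Ext.comp_zero _ _ _ _ _)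
      obtain ⟨ε, hε⟩ := ExtNat.exists_addEquiv_comm a b ha hb
        (AddSubgroup.ext fun y => (hka y).trans (hkb y).symm)
      refine ⟨ε, fun g x => ?_⟩
      obtain ⟨α, rfl⟩ := hext g
      obtain ⟨y, rfl⟩ := ha x
      have h1 : Sheaf.H.map α.τ₁ 1 (a y) = a ((α.τ₃.hom.app (op T₁)).hom y) := by
        show Sheaf.H.map α.τ₁ 1 (((Sheaf.H.equiv₀ E.X₃ hT₁).symm y).comp hE.extClass (zero_add 1)) = _
        rw [hnatA, Sheaf.H.equiv₀_symm_naturality]
        rfl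
      refine (congrArg ε h1).trans ((hε _).trans ?_)
      refine Eq.trans ?_ (congrArg (Sheaf.H.map (Φ.map α.τ₁) 1) (hε y)).symm
      show ((Sheaf.H.equiv₀ (Φ.obj E.X₃) hT₂).symm (sec E.X₃ _)).comp hE'.extClass (zero_add 1) = _
      rw [← hsec, ← Sheaf.H.equiv₀_symm_naturality]
      exact (hnatB α _ (zero_add 1)).symm
    | succ k =>
      let a : Sheaf.H E.X₃ (k + 1) →+ Sheaf.H E.X₁ (k + 1 + 1) := hE.extClass.postcomp _ rfl
      let b : Sheaf.H (E.map Φ).X₃ (k + 1) →+ Sheaf.H (E.map Φ).X₁ (k + 1 + 1) := hE'.extClass.postcomp _ rfl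
      have ha : Function.Bijective a := by
        refine ⟨(injective_iff_map_eq_zero _).2 fun y hy => ?_,
          fun z => Ext.covariant_sequence_exact₁ _ hE z (Subsingleton.elim (α := Sheaf.H E.X₂ (k + 1 + 1)) _ _) rfl⟩
        obtain ⟨x, rfl⟩ := Ext.covariant_sequence_exact₃ _ hE y (n₁ := k + 1 + 1) rfl hy
        rw [Subsingleton.elim (α := Sheaf.H E.X₂ (k + 1)) x 0, Ext.zero_comp]
      have hb : Function.Bijective b := by
        refine ⟨(injective_iff_map_eq_zero _).2 fun y hy => ?_,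
          fun z => Ext.covariant_sequence_exact₁ _ hE' z (Subsingleton.elim (α := Sheaf.H (E.map Φ).X₂ (k + 1 + 1)) _ _) rfl⟩
        obtain ⟨x, rfl⟩ := Ext.covariant_sequence_exact₃ _ hE' y (n₁ := k + 1 + 1) rfl hy
        rw [Subsingleton.elim (α := Sheaf.H (E.map Φ).X₂ (k + 1)) x 0, Ext.zero_comp]
      obtain ⟨e₃, he₃⟩ := ih _ (hP _ hE hI hE₁)
      let a' := AddEquiv.ofBijective a ha
      let b' : Sheaf.H (Φ.obj E.X₃) (k + 1) ≃+ Sheaf.H (Φ.obj E.X₁) (k + 1 + 1) := AddEquiv.ofBijective b hb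
      refine ⟨(a'.symm.trans e₃).trans b', fun g x => ?_⟩
      obtain ⟨α, rfl⟩ := hext g
      obtain ⟨y, rfl⟩ := a'.surjective x
      have h1 : Sheaf.H.map α.τ₁ _ (a' y) = a' (Sheaf.H.map α.τ₃ _ y) := hnatA α y rfl
      have h2 : ∀ z, (a'.symm.trans e₃).trans b' (a' z) = b' (e₃ z) := fun z =>
        congrArg (fun w => b' (e₃ w)) (a'.symm_apply_apply z)
      rw [h1, h2, h2, he₃]
      exact (hnatB α (e₃ y) rfl).symm

end Groth.Agent.EtLC12.NatCompare
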